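/-
The isomorphism type of the normal Sylow subgroup of a minimal non-nilpotent group.
-/
import Cfsg.Agent.SolvStruct.Schmidt
import Cfsg.Agent.SolvStruct.NilpotentHall
import Cfsg.Agent.PGroups.Commutators

set_option linter.style.haveILetI false
set_option linter.unusedSectionVars false

namespace Cfsg.Lib.SchmidtPLength

open Subgroup
open scoped commutatorElement

universe u v

/-- What is needed about such a `p`-group. -/
structure SchmidtType (p : ℕ) (S : Type u) [Group S] : Prop where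
  comm_center : ∀ x y : S, ⁅x, y⁆ ∈ center S
  center_le : ¬ IsMulCommutative S → center S ≤ commutator S
  pow_mem : ¬ IsMulCommutative S → ∀ x : S, x ^ p ∈ center S
  single : ¬ IsMulCommutative S → ∀ (H : Subgroup S) (x : S), x ∉ center S → (∀ y, ⁅x, y⁆ ∈ H) →
    center S ≤ H
  pow_eq_one : ¬ IsMulCommutative S → p ≠ 2 → ∀ x : S, x ^ p = 1
  small : ¬ IsMulCommutative S → Nat.card S = p ^ 3 → p ≤ 3 →
    p = 2 ∧ ∀ x : S, x ^ 2 = 1 → x ∈ center S

theorem mem_center_equiv {S : Type u} [Group S] {T : Type v} [Group T] (e : S ≃* T) {x : S} :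
    e x ∈ center T ↔ x ∈ center S := by
  simp only [mem_center_iff]
  refine ⟨fun h y => e.injective (by rw [map_mul, map_mul]; exact h (e y)), fun h y => ?_⟩
  obtain ⟨y, rfl⟩ := e.surjective y
  rw [← map_mul, ← map_mul, h y]

theorem SchmidtType.of_equiv {p : ℕ} {S : Type u} [Group S] {T : Type v} [Group T] (e : S ≃* T)
    (h : SchmidtType p T) : SchmidtType p S := by
  have hne : ¬ IsMulCommutative S → ¬ IsMulCommutative T := fun hn hc => hn ⟨⟨fun a b =>
    e.injective (by rw [map_mul, map_mul, hc.is_comm.comm])⟩⟩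
  have hsing : ¬ IsMulCommutative S → ∀ (H : Subgroup S) (x : S), x ∉ center S → (∀ y, ⁅x, y⁆ ∈ H) →
      center S ≤ H := by
    intro hn H x hx hH z hz
    obtain ⟨w, hw, hwz⟩ := h.single (hne hn) (H.map e.toMonoidHom) (e x) (fun h' => hx ((mem_center_equiv e).1 h'))
      (fun y => by
        obtain ⟨y, rfl⟩ := e.surjective y
        exact ⟨_, hH y, map_commutatorElement e.toMonoidHom x y⟩) ((mem_center_equiv e).2 hz)
    rwa [← e.injective hwz]
  constructor
  · intro x y
    rw [← mem_center_equiv e, map_commutatorElement]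
    exact h.comm_center _ _
  · intro hn z hz
    have h1 : e z ∈ (commutator S).map e.toMonoidHom := by
      rw [show (commutator S).map e.toMonoidHom = commutator T by
        rw [_root_.commutator_def, Subgroup.map_commutator, map_top_of_surjective e.toMonoidHom e.surjective, _root_.commutator_def]]
      exact h.center_le (hne hn) ((mem_center_equiv e).2 hz)
    obtain ⟨w, hw, hwz⟩ := h1
    rwa [← e.injective hwz]
  · intro hn x
    rw [← mem_center_equiv e, map_pow]
    exact h.pow_mem (hne hn) _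
  · exact hsing
  · intro hn h2 x
    exact e.injective (by rw [map_pow, map_one]; exact h.pow_eq_one (hne hn) h2 _)
  · intro hn hc h3
    obtain ⟨rfl, h4⟩ := h.small (hne hn) (by rw [← hc]; exact Nat.card_congr e.symm.toEquiv) h3
    exact ⟨rfl, fun x hx => (mem_center_equiv e).1 (h4 _ (by rw [← map_pow, hx, map_one]))⟩

variable {X : Type u} [Group X] [Finite X]

/-- Facts about a generating pair of a minimal non-nilpotent group. -/
theorem schmidtType_of_setup {p q k : ℕ} [hp : Fact p.Prime] [hq : Fact q.Prime] (hqp : q ≠ p)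
    (P : Subgroup X) [hPn : P.Normal] (hP : IsPGroup p P) (g : X) (hgo : orderOf g = q ^ k)
    (htop : P ⊔ zpowers g = ⊤) (hgc : g ∉ centralizer (P : Set X))
    (hnil : ∀ H : Subgroup X, H ≠ ⊤ → Group.IsNilpotent H) : SchmidtType p P := by
  classical
  have hpe : ∀ x ∈ P, ∃ i, orderOf x = p ^ i := fun x hx => by
    obtain ⟨i, hi⟩ := IsPGroup.iff_orderOf.mp hP ⟨x, hx⟩
    exact ⟨i, by rw [← hi, Subgroup.orderOf_mk]⟩
  have hcopPg : ∀ x ∈ P, x ∈ zpowers g → x = 1 := fun x hx hxg => by
    obtain ⟨i, hi⟩ := hpe x hx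
    have h1 := orderOf_dvd_of_mem_zpowers hxg
    rw [hi, hgo] at h1
    have h2 : p ^ i = 1 := Nat.eq_one_of_dvd_coprimes
      (Nat.Coprime.pow i k ((Nat.coprime_primes hp.out hq.out).2 hqp.symm)) dvd_rfl h1
    rw [← orderOf_eq_one_iff, hi, h2]
  -- F1
  have F1 : ∀ W : Subgroup X, W ≤ P → W ≠ P → (∀ w ∈ W, g * w * g⁻¹ ∈ W) → ∀ w ∈ W, g * w = w * g := by
    intro W hWP hne hinv w hw
    have hgW : g ∈ normalizer (W : Set X) := mem_normalizer_fintype (fun x hx => hinv x hx)
    have hM : W ⊔ zpowers g ≠ ⊤ := by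
      intro e
      refine hne (le_antisymm hWP fun x hx => ?_)
      obtain ⟨a, ha, b, hb, rfl⟩ : ∃ a ∈ W, ∃ b ∈ zpowers g, a * b = x := by
        have h1 : x ∈ ((W ⊔ zpowers g : Subgroup X) : Set X) := by rw [e]; exact mem_top x
        rw [sup_comm, coe_mul_of_left_le_normalizer_right _ _ (zpowers_le.2 hgW)] at h1
        obtain ⟨b, hb, a, ha, rfl⟩ := Set.mem_mul.1 h1
        exact ⟨b * a * b⁻¹, (mem_normalizer_iff.1 (zpowers_le.2 hgW hb) a).1 ha, b, hb, by group⟩
      have hb1 : b = 1 := hcopPg b (by simpa using mul_mem (inv_mem (hWP ha)) hx) hb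
      rw [hb1, mul_one]; exact ha
    haveI := hnil _ hM
    have h := Cfsg.Lib.SolvStruct.commute_of_coprime_of_nilpotent hqp
      (x := (⟨g, mem_sup_right (mem_zpowers g)⟩ : ↥(W ⊔ zpowers g))) (y := ⟨w, mem_sup_left hw⟩)
      ⟨k, by rw [Subgroup.orderOf_mk, hgo]⟩ (by simpa [Subgroup.orderOf_mk] using hpe w (hWP hw))
    exact congrArg Subtype.val h.eq
  have hPne : ¬ ∀ x ∈ P, g * x = x * g := fun h => hgc (mem_centralizer_iff.2 fun x hx => (h x hx).symm)
  -- F2
  have hk0 : k ≠ 0 := fun e => hPne fun x _ => by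
    rw [e, pow_zero, orderOf_eq_one_iff] at hgo
    simp [hgo]
  have F2 : ∀ x ∈ P, g ^ q * x * (g ^ q)⁻¹ = x := by
    intro x hx
    have hM : P ⊔ zpowers (g ^ q) ≠ ⊤ := by
      intro e
      have h1 : g ∈ ((P ⊔ zpowers (g ^ q) : Subgroup X) : Set X) := by rw [e]; exact mem_top g
      rw [Subgroup.normal_mul] at h1
      obtain ⟨w, hw, b, hb, hwb⟩ := Set.mem_mul.1 h1
      obtain ⟨i, rfl⟩ := mem_zpowers_iff.1 hb
      have h2 : g * ((g ^ q) ^ i)⁻¹ = 1 := hcopPg _ (by rw [← eq_mul_inv_iff_mul_eq.2 hwb]; exact hw)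
        (mul_mem (mem_zpowers g) (inv_mem (zpow_mem (pow_mem (mem_zpowers g) q) i)))
      have h3 : g ^ (1 - (q : ℤ) * i) = 1 := by
        rw [zpow_sub, zpow_one, zpow_mul, zpow_natCast]; exact h2
      rw [← orderOf_dvd_iff_zpow_eq_one, hgo] at h3
      have h4 : (q : ℤ) ∣ 1 := by
        have h5 : (q : ℤ) ∣ 1 - (q : ℤ) * i :=
          (Int.natCast_dvd_natCast.2 (dvd_pow_self q hk0)).trans h3
        simpa using dvd_add h5 (dvd_mul_right (q : ℤ) i)
      exact hq.out.not_dvd_one (Int.natCast_dvd_natCast.1 h4)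
    haveI := hnil _ hM
    obtain ⟨j, -, hj⟩ : ∃ j ≤ k, orderOf (g ^ q) = q ^ j :=
      (Nat.dvd_prime_pow hq.out).1 (hgo ▸ orderOf_pow_dvd q)
    have h := Cfsg.Lib.SolvStruct.commute_of_coprime_of_nilpotent hqp
      (x := (⟨g ^ q, mem_sup_right (mem_zpowers _)⟩ : ↥(P ⊔ zpowers (g ^ q)))) (y := ⟨x, mem_sup_left hx⟩)
      ⟨j, by rw [Subgroup.orderOf_mk, hj]⟩ (by simpa [Subgroup.orderOf_mk] using hpe x hx)
    have h1 : g ^ q * x = x * g ^ q := congrArg Subtype.val h.eq
    rw [h1, mul_inv_cancel_right]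
  -- the action on `P`
  let σ : MulAut P := MulAut.conjNormal g
  have hσ : ∀ x : P, (σ x : X) = g * x * g⁻¹ := fun x => MulAut.conjNormal_apply g x
  have hσq : ∀ x : P, (σ ^ q) x = x := fun x => by
    refine Subtype.ext ?_
    show ((MulAut.conjNormal g ^ q : MulAut P) x : X) = x
    rw [← map_pow, MulAut.conjNormal_apply]
    exact F2 x x.2
  have hfixσ : ∀ x : P, σ x = x ↔ g * (x : X) = x * g := fun x => by
    rw [Subtype.ext_iff, hσ, mul_inv_eq_iff_eq_mul]
  have F1' : ∀ W : Subgroup P, W ≠ ⊤ → (∀ w ∈ W, σ w ∈ W) → ∀ w ∈ W, σ w = w := by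
    intro W hW hinv w hw
    rw [hfixσ]
    refine F1 (W.map P.subtype) (map_subtype_le _) (fun e => hW ?_) ?_ _ ⟨w, hw, rfl⟩
    · exact map_injective P.subtype_injective (e.trans (by simp [← MonoidHom.range_eq_map]))
    · rintro _ ⟨a, ha, rfl⟩
      exact ⟨σ a, hinv a ha, hσ a⟩
  have hPne' : ¬ ∀ x : P, σ x = x := fun h => hPne fun x hx => (hfixσ ⟨x, hx⟩).1 (h _)
  -- generators
  have hgen : closure (Set.range fun x : P => x⁻¹ * σ x) = ⊤ := by
    by_contra hne
    set T := closure (Set.range fun x : P => x⁻¹ * σ x)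
    have hinv : ∀ w ∈ T, σ w ∈ T := fun w hw => by
      have h1 : T ≤ T.comap σ.toMonoidHom := (closure_le _).2 fun y ⟨x, hx⟩ => by
        refine subset_closure ⟨σ x, ?_⟩
        show (σ x)⁻¹ * σ (σ x) = σ y
        rw [← hx, map_mul, map_inv]
      exact h1 hw
    have hfix := F1' T hne hinv
    refine hPne' fun x => ?_
    set t := x⁻¹ * σ x
    have ht : σ t = t := hfix t (subset_closure ⟨x, rfl⟩)
    have hn : ∀ n : ℕ, (σ ^ n) x = x * t ^ n := by
      intro n
      induction n with
      | zero => simp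
      | succ n ih => rw [pow_succ', MulAut.mul_apply, ih, map_mul, map_pow, ht, pow_succ', ← mul_assoc,
          mul_inv_cancel_left]
    have h1 : t ^ q = 1 := by
      have h2 := hn q
      rw [hσq] at h2
      exact mul_left_cancel (a := x) (by rw [mul_one]; exact h2.symm)
    obtain ⟨i, hi⟩ := IsPGroup.iff_orderOf.mp hP t
    have h3 := orderOf_dvd_of_pow_eq_one h1
    rw [hi] at h3
    have h4 : t = 1 := by
      rw [← orderOf_eq_one_iff, hi]
      exact Nat.eq_one_of_dvd_coprimes
        (Nat.Coprime.pow_left i ((Nat.coprime_primes hp.out hq.out).2 hqp.symm)) dvd_rfl h3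
    exact (inv_mul_eq_one.1 h4).symm
  haveI : Nontrivial P := by
    rw [nontrivial_iff_ne_bot]
    intro e
    exact hPne fun x hx => by rw [e, mem_bot] at hx; simp [hx]
  haveI := hP.isNilpotent
  -- commutators are fixed
  have hderiv : ∀ w ∈ commutator P, σ w = w := by
    refine F1' _ ?_ fun w hw => ?_
    · exact (Group.IsSolvable.commutator_lt_top_of_nontrivial P).ne
    · exact Subgroup.Characteristic.fixed (H := commutator P) inferInstance σ |>.ge hw
  have hcm : ∀ a b : P, ⁅a, b⁆ ∈ commutator P := fun a b =>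
    commutator_mem_commutator (mem_top _) (mem_top _)
  have hfix_cen : ∀ c : P, σ c = c → c ∈ center P := by
    intro c hc
    have h : closure (Set.range fun x : P => x⁻¹ * σ x) ≤ centralizer ({c} : Set P) := by
      refine (closure_le _).2 ?_
      rintro _ ⟨x, rfl⟩
      refine mem_centralizer_singleton_iff.2 ?_
      have h1 : ⁅c, σ x⁆ = ⁅c, x⁆ := by
        conv_lhs => rw [← hc]
        rw [← map_commutatorElement]
        exact hderiv _ (hcm c x)
      have h2 : σ x * c⁻¹ * (σ x)⁻¹ = x * c⁻¹ * x⁻¹ := by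
        have h3 := congrArg (fun z => c⁻¹ * z) h1
        simpa [commutatorElement_def, mul_assoc] using h3
      have h4 : x⁻¹ * σ x * c⁻¹ = c⁻¹ * (x⁻¹ * σ x) := by
        calc x⁻¹ * σ x * c⁻¹ = x⁻¹ * (σ x * c⁻¹ * (σ x)⁻¹) * σ x := by group
          _ = x⁻¹ * (x * c⁻¹ * x⁻¹) * σ x := by rw [h2]
          _ = c⁻¹ * (x⁻¹ * σ x) := by group
      calc x⁻¹ * σ x * c = c * (c⁻¹ * (x⁻¹ * σ x)) * c := by group
        _ = c * (x⁻¹ * σ x * c⁻¹) * c := by rw [h4]
        _ = c * (x⁻¹ * σ x) := by group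
    rw [hgen] at h
    exact mem_center_iff.2 fun y => mem_centralizer_singleton_iff.1 (h (mem_top y))
  have hcc : ∀ a b : P, ⁅a, b⁆ ∈ center P := fun a b => hfix_cen _ (hderiv _ (hcm a b))
  have hcen_fix : ¬ IsMulCommutative P → ∀ z ∈ center P, σ z = z := fun hn => by
    refine F1' _ (fun e => hn ⟨⟨fun a b => ?_⟩⟩) fun w hw => ?_
    · exact (mem_center_iff.1 (e.ge (mem_top b)) a)
    · exact (mem_center_equiv σ).2 hw
  have hsingle : ¬ IsMulCommutative P → ∀ (H : Subgroup P) (x : P), x ∉ center P → (∀ y, ⁅x, y⁆ ∈ H) →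
      commutator P ≤ H := by
    intro hn H x hx hH
    let R : Subgroup P :=
      { carrier := {a | ∀ y, ⁅a, y⁆ ∈ H}
        mul_mem' := fun {a b} ha hb y => by
          rw [Cfsg.Lib.PGroups.commutator_mul_left_of_central (hcc b y)]
          exact mul_mem (ha y) (hb y)
        one_mem' := fun y => by rw [commutatorElement_one_left]; exact one_mem _
        inv_mem' := fun {a} ha y => by
          have h1 := Cfsg.Lib.PGroups.commutator_mul_left_of_central (x := a⁻¹) (hcc a y)
          rw [inv_mul_cancel, commutatorElement_one_left, eq_comm, mul_eq_one_iff_eq_inv] at h1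
          rw [h1]; exact inv_mem (ha y) }
    have hR : R = ⊤ := by
      by_contra hne
      refine hx (hfix_cen x (F1' R hne ?_ x hH))
      intro a ha y
      obtain ⟨y, rfl⟩ := σ.surjective y
      rw [← map_commutatorElement, hderiv _ (hcm a y)]
      exact ha y
    rw [_root_.commutator_def, commutator_le]
    intro a _ b _
    exact hR.ge (mem_top a) b
  have hle : ¬ IsMulCommutative P → center P ≤ commutator P := by
    intro hn z hz
    let f : P →* Abelianization P := Abelianization.of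
    let ψ : P →* Abelianization P :=
      MonoidHom.mk' (fun x => ∏ i ∈ Finset.range q, f ((σ ^ i) x)) fun a b => by
        simp only [map_mul]; exact Finset.prod_mul_distrib
    have hψσ : ∀ x, ψ (σ x) = ψ x := by
      intro x
      show ∏ i ∈ Finset.range q, f ((σ ^ i) (σ x)) = ∏ i ∈ Finset.range q, f ((σ ^ i) x)
      have h1 : ∀ i : ℕ, (σ ^ i) (σ x) = (σ ^ (i + 1)) x := fun i => by rw [pow_succ, MulAut.mul_apply]
      simp only [h1]
      have h2 := Finset.prod_range_succ' (fun i => f ((σ ^ i) x)) q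
      rw [Finset.prod_range_succ (fun i => f ((σ ^ i) x)) q, hσq, pow_zero, MulAut.one_apply] at h2
      exact mul_right_cancel h2.symm
    have hψ1 : ψ z = 1 := by
      have h1 : closure (Set.range fun x : P => x⁻¹ * σ x) ≤ ψ.ker := (closure_le _).2 fun y ⟨x, hx⟩ => by
        rw [SetLike.mem_coe, MonoidHom.mem_ker, ← hx, map_mul, map_inv, hψσ, inv_mul_cancel]
      rw [hgen] at h1
      exact h1 (mem_top z)
    have h2 : f z ^ q = 1 := by
      have h3 : ∀ i : ℕ, (σ ^ i) z = z := fun i => by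
        induction i with
        | zero => simp
        | succ i ih => rw [pow_succ, MulAut.mul_apply, hcen_fix hn z hz, ih]
      rw [← hψ1]
      show _ = ∏ i ∈ Finset.range q, f ((σ ^ i) z)
      simp only [h3, Finset.prod_const, Finset.card_range]
    obtain ⟨i, hi⟩ := IsPGroup.iff_orderOf.mp hP z
    have h4 : orderOf (f z) = 1 := Nat.eq_one_of_dvd_coprimes
      (Nat.Coprime.pow_left i ((Nat.coprime_primes hp.out hq.out).2 hqp.symm))
      (hi ▸ orderOf_map_dvd f z) (orderOf_dvd_of_pow_eq_one h2)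
    rw [orderOf_eq_one_iff, ← MonoidHom.mem_ker, Abelianization.ker_of] at h4
    exact h4
  have hpow : ¬ IsMulCommutative P → ∀ x : P, x ^ p ∈ center P := fun hn x => by
    refine hfix_cen _ (F1' (frattini P) ?_ (fun w hw => ?_) _ (Cfsg.Lib.PGroups.pow_mem_frattini hP x))
    · obtain ⟨M, hM, -⟩ := (eq_top_or_exists_le_coatom (⊥ : Subgroup P)).resolve_left bot_ne_top
      exact ne_top_of_le_ne_top hM.1 (frattini_le_coatom hM)
    · exact Subgroup.Characteristic.fixed (H := frattini P) inferInstance σ |>.ge hw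
  have hexp : ¬ IsMulCommutative P → p ≠ 2 → ∀ x : P, x ^ p = 1 := by
    intro hn h2
    have hmul : ∀ a b : P, (a * b) ^ p = a ^ p * b ^ p := fun a b => by
      obtain ⟨c, hc⟩ := Cfsg.Lib.PGroups.dvd_choose_two hp.out h2
      rw [Cfsg.Lib.PGroups.mul_pow_of_central (hcc b a), hc, pow_mul,
        ← Cfsg.Lib.PGroups.commutator_pow_left_of_commute (x := b) (y := a) (mem_center_iff.1 (hcc b a) b).symm p,
        commutatorElement_eq_one_iff_mul_comm.2 (mem_center_iff.1 (hpow hn b) a).symm, one_pow, mul_one]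
    let φ : P →* P := MonoidHom.mk' (fun x => x ^ p) hmul
    have h1 : closure (Set.range fun x : P => x⁻¹ * σ x) ≤ φ.ker := (closure_le _).2 fun y ⟨x, hx⟩ => by
      rw [SetLike.mem_coe, MonoidHom.mem_ker, ← hx]
      show (x⁻¹ * σ x) ^ p = 1
      rw [hmul, inv_pow, ← map_pow, hcen_fix hn _ (hpow hn x), inv_mul_cancel]
    rw [hgen] at h1
    exact fun x => h1 (mem_top x)
  refine ⟨hcc, hle, hpow, fun hn H x hx hH => (hle hn).trans (hsingle hn H x hx hH), hexp, ?_⟩
  -- order `p³`
  intro hn hcard hp3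
  set Z := center P
  have hcyc : ∀ c : P, (∀ y, ∃ i : ℤ, c ^ i * y ∈ Z) → False := by
    intro c hc
    refine hn ⟨⟨fun a b => ?_⟩⟩
    obtain ⟨i, hi⟩ := hc a
    obtain ⟨j, hj⟩ := hc b
    have e1 : a = c ^ (-i) * (c ^ i * a) := by rw [zpow_neg, inv_mul_cancel_left]
    have e2 : b = c ^ (-j) * (c ^ j * b) := by rw [zpow_neg, inv_mul_cancel_left]
    rw [e1, e2]
    set u := c ^ i * a
    set v := c ^ j * b
    have hu := mem_center_iff.1 hi
    have hv := mem_center_iff.1 hj
    calc c ^ (-i) * u * (c ^ (-j) * v) = c ^ (-i) * (u * c ^ (-j)) * v := by group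
      _ = c ^ (-i) * (c ^ (-j) * u) * v := by rw [hu]
      _ = (c ^ (-i) * c ^ (-j)) * (u * v) := by group
      _ = (c ^ (-j) * c ^ (-i)) * (v * u) := by rw [← zpow_add, ← zpow_add, add_comm, hu v]
      _ = c ^ (-j) * (c ^ (-i) * v) * u := by group
      _ = c ^ (-j) * (v * c ^ (-i)) * u := by rw [hv]
      _ = c ^ (-j) * v * (c ^ (-i) * u) := by group
  set π := QuotientGroup.mk' Z
  have hker : ∀ y : P, π y = 1 ↔ y ∈ Z := fun y => QuotientGroup.eq_one_iff y
  have hcardZ : Nat.card Z = p ∧ Nat.card (P ⧸ Z) = p ^ 2 := by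
    have hmul : Nat.card Z * Nat.card (P ⧸ Z) = p ^ 3 := by
      rw [← hcard, ← index_eq_card, card_mul_index]
    obtain ⟨j, hj3, hj⟩ := (Nat.dvd_prime_pow hp.out).1 (Dvd.intro _ hmul)
    haveI : Nontrivial Z := hP.center_nontrivial
    have hj0 : j ≠ 0 := fun e => by
      have := Finite.one_lt_card (α := Z)
      rw [hj, e, pow_zero] at this; omega
    have hq2 : Nat.card (P ⧸ Z) = p ^ (3 - j) := by
      refine Nat.eq_of_mul_eq_mul_left (Nat.pos_of_ne_zero (pow_ne_zero j hp.out.ne_zero)) ?_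
      rw [← pow_add, Nat.add_sub_cancel' hj3, ← hmul, hj]
    have hj1 : j = 1 := by
      by_contra hne
      have hcy : IsCyclic (P ⧸ Z) := by
        rcases Nat.lt_or_ge j 3 with hlt | hge
        · exact isCyclic_of_prime_card (p := p) (by rw [hq2, show 3 - j = 1 by omega, pow_one])
        · haveI : Subsingleton (P ⧸ Z) :=
            (Nat.card_eq_one_iff_unique.1 (by rw [hq2, show 3 - j = 0 by omega, pow_zero])).1
          infer_instance
      obtain ⟨⟨c⟩, hc⟩ := hcy.exists_generator
      refine hcyc c fun y => ?_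
      obtain ⟨i, hi⟩ := mem_zpowers_iff.1 (hc (π y))
      refine ⟨-i, (hker _).1 ?_⟩
      rw [map_mul, map_zpow, zpow_neg, ← hi]
      exact inv_mul_cancel _
    subst hj1
    exact ⟨by rw [hj, pow_one], hq2⟩
  have hnofix : ∀ x : P, π (σ x) = π x → x ∈ Z := by
    intro x hx
    by_contra hxZ
    have hzx : x⁻¹ * σ x ∈ Z := QuotientGroup.eq.1 hx.symm
    set W := zpowers x ⊔ Z
    have hinv : ∀ w ∈ W, σ w ∈ W := by
      intro w hw
      have h1 : W ≤ W.comap σ.toMonoidHom := sup_le
        (zpowers_le.2 (show σ x ∈ W by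
          rw [← mul_inv_cancel_left x (σ x)]
          exact mul_mem (mem_sup_left (mem_zpowers x)) (mem_sup_right hzx)))
        (fun z hz => mem_sup_right ((mem_center_equiv σ).2 hz))
      exact h1 hw
    have hW : W ≠ ⊤ := fun e => hcyc x fun y => by
      have hy : y ∈ ((zpowers x ⊔ Z : Subgroup P) : Set P) := e.ge (mem_top y)
      rw [Subgroup.mul_normal] at hy
      obtain ⟨a, ha, z, hz, rfl⟩ := Set.mem_mul.1 hy
      obtain ⟨i, rfl⟩ := mem_zpowers_iff.1 ha
      exact ⟨-i, by rwa [zpow_neg, inv_mul_cancel_left]⟩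
    exact hxZ (hfix_cen x (F1' W hW hinv x (mem_sup_left (mem_zpowers x))))
  have hπc : ∀ a b : P, π a * π b = π b * π a := fun a b => by
    rw [← commutatorElement_eq_one_iff_mul_comm, ← map_commutatorElement, hker]; exact hcc a b
  have hp' : p = 2 ∨ p = 3 := by have := hp.out.two_le; omega
  rcases hp' with rfl | rfl
  · refine ⟨rfl, fun x hx => ?_⟩
    by_contra hxZ
    haveI := Fintype.ofFinite (P ⧸ Z)
    have hsq : ∀ a : P, π a * π a = 1 := fun a => by
      rw [← map_mul, hker, ← sq]; exact hpow hn a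
    have hzsq : ∀ z : P, z ∈ Z → z ^ 2 = 1 := fun z hz => by
      have h1 : (⟨z, hz⟩ : Z) ^ 2 = 1 := orderOf_dvd_iff_pow_eq_one.1 (hcardZ.1 ▸ orderOf_dvd_natCard _)
      exact congrArg Subtype.val h1
    have hinj : ∀ a b : P, π a = π b → π (σ a) = π (σ b) := fun a b hab => by
      refine QuotientGroup.eq.2 ?_
      rw [← map_inv, ← map_mul]
      exact (mem_center_equiv σ).2 (QuotientGroup.eq.1 hab)
    have h01 : π x ≠ π (σ x) := fun e => hxZ (hnofix x e.symm)
    have h12 : π (σ x) ≠ π (σ (σ x)) := fun e => by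
      have h := hnofix (σ x) e.symm
      exact hxZ ((mem_center_equiv σ).1 h)
    have h02 : π x ≠ π (σ (σ x)) := fun e => by
      have h1 : π (σ (x * σ x)) = π (x * σ x) := by
        rw [map_mul σ, map_mul, map_mul, ← e, hπc]
      have h2 := (hker _).2 (hnofix _ h1)
      rw [map_mul] at h2
      refine h01 ?_
      calc π x = π x * (π x * π (σ x)) := by rw [h2, mul_one]
        _ = π (σ x) := by rw [← mul_assoc, hsq, one_mul]
    have h1 : π x ≠ 1 := fun e => hxZ ((hker x).1 e)
    have h1' : π (σ x) ≠ 1 := fun e => hxZ ((mem_center_equiv σ).1 ((hker _).1 e))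
    have h1'' : π (σ (σ x)) ≠ 1 := fun e =>
      hxZ ((mem_center_equiv σ).1 ((mem_center_equiv σ).1 ((hker _).1 e)))
    have huniv : ({1, π x, π (σ x), π (σ (σ x))} : Finset (P ⧸ Z)) = Finset.univ := by
      refine Finset.eq_univ_of_card _ ?_
      rw [← Nat.card_eq_fintype_card, hcardZ.2, Finset.card_insert_of_notMem, Finset.card_insert_of_notMem,
        Finset.card_insert_of_notMem, Finset.card_singleton]
      all_goals (try simp only [Finset.mem_insert, Finset.mem_singleton, not_or])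
      all_goals first
        | rfl | exact h12 | exact ⟨h01, h02⟩ | exact ⟨h1.symm, h1'.symm, h1''.symm⟩
    have hinvol : ∀ a b : P, a ^ 2 = 1 → π a = π b → b ^ 2 = 1 := fun a b ha hab => by
      have hz : a⁻¹ * b ∈ Z := QuotientGroup.eq.1 hab
      have hcm : Commute a (a⁻¹ * b) := mem_center_iff.1 hz a
      rw [← mul_inv_cancel_left a b, hcm.mul_pow, ha, hzsq _ hz, one_mul]
    have hall : ∀ y : P, y ^ 2 = 1 := fun y => by
      have hy : π y ∈ ({1, π x, π (σ x), π (σ (σ x))} : Finset (P ⧸ Z)) := huniv.ge (Finset.mem_univ _)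
      simp only [Finset.mem_insert, Finset.mem_singleton] at hy
      rcases hy with h | h | h | h
      · exact hzsq y ((hker y).1 h)
      · exact hinvol _ y hx h.symm
      · exact hinvol _ y (by rw [← map_pow, hx, map_one]) h.symm
      · exact hinvol _ y (by rw [← map_pow, ← map_pow, hx, map_one, map_one]) h.symm
    refine hn ⟨⟨fun a b => ?_⟩⟩
    have hi : ∀ y : P, y⁻¹ = y := fun y => inv_eq_of_mul_eq_one_right (by rw [← sq]; exact hall y)
    calc a * b = (a * b)⁻¹ := (hi _).symm
      _ = b⁻¹ * a⁻¹ := mul_inv_rev _ _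
      _ = b * a := by rw [hi, hi]
  · exfalso
    haveI := Fintype.ofFinite (P ⧸ Z)
    have hle' : Z ≤ Z.comap σ.toMonoidHom := fun z hz => (mem_center_equiv σ).2 hz
    set s := QuotientGroup.map Z Z σ.toMonoidHom hle'
    have hs : ∀ y : P, s (π y) = π (σ y) := fun y => rfl
    have hsn : ∀ (n : ℕ) (y : P), (⇑s)^[n] (π y) = π ((σ ^ n) y) := by
      intro n y
      induction n with
      | zero => simp
      | succ n ih => rw [Function.iterate_succ_apply', ih, hs, pow_succ', MulAut.mul_apply]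
    have hsq' : (⇑s)^[q] = id := funext fun z => by
      obtain ⟨y, rfl⟩ := QuotientGroup.mk'_surjective Z z
      rw [hsn, hσq]; rfl
    have hbij : Function.Bijective s := by
      refine Function.bijective_iff_has_inverse.2 ⟨(⇑s)^[q - 1], fun z => ?_, fun z => ?_⟩
      · rw [← Function.iterate_succ_apply, Nat.succ_eq_add_one, Nat.sub_add_cancel hq.out.one_le, hsq']; rfl
      · rw [← Function.iterate_succ_apply' s (q - 1), Nat.succ_eq_add_one, Nat.sub_add_cancel hq.out.one_le, hsq']; rfl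
    let e : Equiv.Perm (P ⧸ Z) := Equiv.ofBijective s hbij
    have he : e ^ q ^ 1 = 1 := Equiv.ext fun z => by
      rw [pow_one, Equiv.Perm.coe_pow]
      exact congrFun hsq' z
    have hmod := Equiv.Perm.card_compl_support_modEq (p := q) he
    have hfixset : e.supportᶜ = ({1} : Finset (P ⧸ Z)) := by
      ext z
      rw [Finset.mem_compl, Equiv.Perm.notMem_support, Finset.mem_singleton]
      obtain ⟨y, rfl⟩ := QuotientGroup.mk'_surjective Z z
      refine ⟨fun h => (hker y).2 (hnofix y h), fun h => ?_⟩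
      show s (π y) = π y
      rw [h, map_one]
    rw [hfixset, Finset.card_singleton, ← Nat.card_eq_fintype_card, hcardZ.2] at hmod
    have h8 : q ∣ 8 := (Nat.modEq_iff_dvd' (by norm_num)).1 hmod
    have hq2 : q = 2 := (Nat.prime_dvd_prime_iff_eq hq.out Nat.prime_two).1
      (hq.out.dvd_of_dvd_pow (show q ∣ 2 ^ 3 from h8))
    subst hq2
    obtain ⟨x, hx⟩ : ∃ x : P, x ∉ Z := by
      by_contra hall
      push Not at hall
      exact hn ⟨⟨fun a b => mem_center_iff.1 (hall b) a⟩⟩
    have hxx : σ (σ x) = x := by rw [← MulAut.mul_apply, ← sq]; exact hσq x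
    have h1 : x * σ x ∈ Z := hnofix _ (by rw [map_mul σ, hxx, map_mul, map_mul, hπc])
    set W := zpowers x ⊔ Z
    have hinv : ∀ w ∈ W, σ w ∈ W := by
      intro w hw
      have h2 : W ≤ W.comap σ.toMonoidHom := sup_le
        (zpowers_le.2 (show σ x ∈ W by
          rw [← inv_mul_cancel_left x (σ x)]
          exact mul_mem (inv_mem (mem_sup_left (mem_zpowers x))) (mem_sup_right h1)))
        (fun z hz => mem_sup_right ((mem_center_equiv σ).2 hz))
      exact h2 hw
    have hW : W ≠ ⊤ := fun e => hcyc x fun y => by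
      have hy : y ∈ ((zpowers x ⊔ Z : Subgroup P) : Set P) := e.ge (mem_top y)
      rw [Subgroup.mul_normal] at hy
      obtain ⟨a, ha, z, hz, rfl⟩ := Set.mem_mul.1 hy
      obtain ⟨i, rfl⟩ := mem_zpowers_iff.1 ha
      exact ⟨-i, by rwa [zpow_neg, inv_mul_cancel_left]⟩
    exact hx (hfix_cen x (F1' W hW hinv x (mem_sup_left (mem_zpowers x))))

/-- The normal Sylow subgroup of a minimal non-nilpotent group has Schmidt type. -/
theorem schmidtType (p : ℕ) [hp : Fact p.Prime] (hX : Cfsg.IsMinimalNonNilpotent X) (P : Sylow p X)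
    (hPn : (P : Subgroup X).Normal) (hP1 : (P : Subgroup X) ≠ ⊥) : SchmidtType p (P : Subgroup X) := by
  obtain ⟨q, hq, Q, g, r, k, hQn, hr, hrq, hgo, hgc, htop, R, hR⟩ := Cfsg.Lib.Schmidt.schmidt_aux hX
  haveI := Fact.mk hr
  haveI := Fact.mk hq
  haveI := hQn
  haveI := hPn
  by_cases hpq : p = q
  · subst hpq
    haveI := Sylow.unique_of_normal P ‹_›
    obtain rfl : Q = P := Subsingleton.elim _ _
    exact schmidtType_of_setup hrq _ Q.2 g hgo htop hgc hX.2
  · exfalso
    have hpr : p = r := by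
      by_contra hne
      have h1 : p ∣ Nat.card (Q : Subgroup X) * Nat.card (zpowers g) := by
        obtain ⟨i, hi⟩ := P.2.exists_card_eq
        have h2 : p ∣ Nat.card X := by
          refine dvd_trans ?_ (P : Subgroup X).card_subgroup_dvd_card
          rw [hi]
          refine dvd_pow_self p fun e => hP1 ?_
          rw [← card_eq_one, hi, e, pow_zero]
        refine h2.trans ?_
        rw [← (Q : Subgroup X).card_mul_index]
        refine Nat.mul_dvd_mul_left _ ?_
        rw [← relIndex_top_right, ← htop, sup_comm, relIndex_sup_right]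
        exact relIndex_dvd_card _ _
      rw [Nat.card_zpowers, hgo] at h1
      obtain ⟨j, hj⟩ := Q.2.exists_card_eq
      rcases hp.out.dvd_mul.1 h1 with h2 | h2
      · exact hpq ((Nat.prime_dvd_prime_iff_eq hp.out hq).1 (hp.out.dvd_of_dvd_pow (hj ▸ h2)))
      · exact hne ((Nat.prime_dvd_prime_iff_eq hp.out hr).1 (hp.out.dvd_of_dvd_pow h2))
    subst hpr
    haveI := Sylow.unique_of_normal P ‹_›
    obtain rfl : R = P := Subsingleton.elim _ _
    exact hgc (mem_centralizer_iff.2 fun x hx => (Subgroup.commute_of_normal_of_disjoint _ _ hPn hQn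
      (IsPGroup.disjoint_of_ne p q hpq _ _ R.2 Q.2) g x (by rw [hR]; exact mem_zpowers g) hx).eq.symm)

end Cfsg.Lib.SchmidtPLength
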