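/-
A `p`-solvable group with trivial `p'`-core whose Sylow subgroup has Schmidt type has a normal one.
-/
import Cfsg.Agent.SolvStruct.SchmidtPLength.Type
import Cfsg.Agent.PLocal.StableClosureApps
import Cfsg.Agent.Coprime.CyclicQuotient
import Cfsg.Agent.Coprime.Fitting
import Cfsg.Agent.S4748
import Cfsg.Agent.OddLocal.PLengthOne

set_option linter.style.haveILetI false
set_option linter.unusedSectionVars false

namespace Cfsg.Lib.SchmidtPLength

open Subgroup
open scoped commutatorElement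

universe u

variable {G : Type u} [Group G] [Finite G] {p : ℕ} [hp : Fact p.Prime]

theorem mem_map_subtype_center {S : Subgroup G} {z : G} :
    z ∈ (center S).map S.subtype ↔ z ∈ S ∧ ∀ x ∈ S, z * x = x * z := by
  refine ⟨?_, fun ⟨h1, h2⟩ => ⟨⟨z, h1⟩, mem_center_iff.2 fun x => Subtype.ext (h2 x x.2).symm, rfl⟩⟩
  rintro ⟨w, hw, rfl⟩
  exact ⟨w.2, fun x hx => (congrArg Subtype.val (mem_center_iff.1 hw ⟨x, hx⟩)).symm⟩

/-- The elements centralising `Z` whose commutators with `V` lie in `Z`. -/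
def chainFix (V Z : Subgroup G) : Subgroup G where
  carrier := {m | (∀ z ∈ Z, m * z = z * m) ∧ ∀ v ∈ V, ⁅m, v⁆ ∈ Z}
  one_mem' := ⟨fun z _ => by simp, fun v _ => by rw [commutatorElement_one_left]; exact one_mem _⟩
  mul_mem' := by
    rintro a b ⟨ha, ha'⟩ ⟨hb, hb'⟩
    refine ⟨fun z hz => by rw [mul_assoc, hb z hz, ← mul_assoc, ha z hz, mul_assoc], fun v hv => ?_⟩
    rw [Cfsg.Lib.PGroups.mul_left_commutator, ha _ (hb' v hv), mul_inv_cancel_right]
    exact mul_mem (hb' v hv) (ha' v hv)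
  inv_mem' := by
    rintro a ⟨ha, ha'⟩
    refine ⟨fun z hz => by rw [inv_mul_eq_iff_eq_mul, ← mul_assoc, ha z hz, mul_inv_cancel_right],
      fun v hv => ?_⟩
    have h1 : ⁅a⁻¹, v⁆ = a⁻¹ * ⁅a, v⁆⁻¹ * a := by simp only [commutatorElement_def]; group
    rw [h1, mul_assoc, ← ha _ (inv_mem (ha' v hv)), inv_mul_cancel_left]
    exact inv_mem (ha' v hv)

/-- The reduction to the normalizer of the central chain. -/
theorem le_pCore_of_le_normalizer (hsol : Cfsg.IsPSolvable p G) (hO : Cfsg.pPrimeCore p G = ⊥)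
    (S : Sylow p G) (Z : Subgroup G) (hZ : Z ≤ Cfsg.pCore p G)
    (hZS : ∀ x ∈ (S : Subgroup G), ∀ z ∈ Z, x * z = z * x)
    (hcm : ∀ x ∈ (S : Subgroup G), ∀ y ∈ (S : Subgroup G), ⁅x, y⁆ ∈ Z)
    (hN : (Cfsg.pPrimeCore p (G ⧸ Cfsg.pCore p G)).comap (QuotientGroup.mk' (Cfsg.pCore p G)) ≤
      normalizer (Z : Set G)) : (S : Subgroup G) ≤ Cfsg.pCore p G := by
  set V := Cfsg.pCore p G with hVdef
  set π := QuotientGroup.mk' V
  set N0 := (Cfsg.pPrimeCore p (G ⧸ V)).comap π
  set Ck := chainFix V Z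
  have hVS : V ≤ (S : Subgroup G) := Cfsg.Lib.Coprime.pCore_le_sylow p S
  have hVp : IsPGroup p V := Cfsg.Lib.Components.isPGroup_pCore p
  have hCV := Cfsg.Lib.StableClosure.centralizer_pCore_le_of_pSolvable hsol hO
  have hVp' : ∀ x ∈ V, ∃ i, orderOf x = p ^ i := fun x hx => by
    obtain ⟨i, hi⟩ := IsPGroup.iff_orderOf.mp hVp ⟨x, hx⟩
    exact ⟨i, by rw [← hi, Subgroup.orderOf_mk]⟩
  have hp' : ∀ m ∈ Ck, (orderOf m).Coprime p → m = 1 := by
    rintro m hm hmc
    have hmV : m ∈ V := hCV (mem_centralizer_iff.2 fun v hv => by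
      obtain ⟨i, hi⟩ := (hVp.to_le hZ).exists_card_eq
      have h := Cfsg.Lib.Coprime.centralizes_of_coprime_chain (A := zpowers m) (D := Z) (k := v) ?_ ?_ ?_
      · exact (mem_centralizer_iff.1 h m (mem_zpowers m)).symm
      · rw [Nat.card_zpowers, hi]; exact hmc.pow_right i
      · exact zpowers_le.2 (mem_centralizer_iff.2 fun z hz => (hm.1 z hz).symm)
      · intro a ha
        have haCk : a ∈ Ck := zpowers_le.2 hm ha
        have h1 : v⁻¹ * a * v * a⁻¹ = ⁅a, v⁻¹⁆⁻¹ := by simp only [commutatorElement_def]; group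
        rw [h1]; exact inv_mem (haCk.2 _ (inv_mem hv)))
    obtain ⟨i, hi⟩ := hVp' m hmV
    rw [← orderOf_eq_one_iff]
    exact Nat.eq_one_of_dvd_coprimes (hmc.pow_right i) dvd_rfl (hi ▸ dvd_rfl)
  have hCkp : IsPGroup p Ck := by
    refine IsPGroup.iff_orderOf.mpr fun m => ⟨_, Nat.eq_prime_pow_of_unique_prime_dvd (orderOf_pos m).ne'
      fun {r} hr hd => ?_⟩
    by_contra hrp
    have h1 : orderOf (m ^ (orderOf m / r)) = r := orderOf_pow_orderOf_div (orderOf_pos m).ne' hd
    rw [← Subgroup.orderOf_coe] at h1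
    have h2 := hp' _ (m ^ (orderOf m / r)).2 (by rw [h1]; exact (Nat.coprime_primes hr hp.out).2 hrp)
    rw [h2, orderOf_one] at h1
    exact hr.ne_one h1.symm
  have hVbot : Cfsg.pCore p (G ⧸ V) = ⊥ := by
    rw [eq_bot_iff]
    intro y hy
    obtain ⟨x, rfl⟩ := QuotientGroup.mk'_surjective V y
    have h1 : IsPGroup p ((Cfsg.pCore p (G ⧸ V)).comap π) :=
      (Cfsg.Lib.Components.isPGroup_pCore p).comap_of_ker_isPGroup π (by rw [QuotientGroup.ker_mk']; exact hVp)
    haveI : ((Cfsg.pCore p (G ⧸ V)).comap π).Normal :=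
      (Cfsg.Lib.Components.pCore_normal' p).comap π
    exact mem_bot.2 ((QuotientGroup.eq_one_iff x).2 (Cfsg.Lib.Components.le_pCore h1 hy))
  have hW : (Nat.card (Cfsg.pPrimeCore p (G ⧸ V))).Coprime p := Cfsg.Lib.Components.coprime_card_pPrimeCore p
  have hone : ∀ x : G, (∃ i, orderOf x = p ^ i) → π x ∈ Cfsg.pPrimeCore p (G ⧸ V) → π x = 1 := by
    rintro x ⟨i, hi⟩ hx
    rw [← orderOf_eq_one_iff]
    have h2 := orderOf_dvd_natCard (⟨π x, hx⟩ : ↥(Cfsg.pPrimeCore p (G ⧸ V)))
    rw [Subgroup.orderOf_mk] at h2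
    exact Nat.eq_one_of_dvd_coprimes (hW.pow_right i) h2 (hi ▸ orderOf_map_dvd π x)
  have hSp : ∀ x ∈ (S : Subgroup G), ∃ i, orderOf x = p ^ i := fun x hx => by
    obtain ⟨i, hi⟩ := IsPGroup.iff_orderOf.mp S.2 ⟨x, hx⟩
    exact ⟨i, by rw [← hi, Subgroup.orderOf_mk]⟩
  intro x hx
  have hxCk : x ∈ Ck := ⟨hZS x hx, fun v hv => hcm x hx v (hVS hv)⟩
  have hN0n : N0.Normal := (Cfsg.Lib.Components.pPrimeCore_normal' p).comap π
  have hVn : V.Normal := Cfsg.Lib.Components.pCore_normal' p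
  have hcent : π x ∈ centralizer (Cfsg.pPrimeCore p (G ⧸ V) : Set (G ⧸ V)) := by
    refine mem_centralizer_iff.2 fun y hy => ?_
    obtain ⟨n, rfl⟩ := QuotientGroup.mk'_surjective V y
    have hn : n ∈ N0 := hy
    have h1 : ⁅x, n⁆ ∈ Ck := by
      have hconj : n * x⁻¹ * n⁻¹ ∈ Ck := by
        have hnZ := mem_normalizer_iff.1 (hN hn)
        have hnZ' := mem_normalizer_iff.1 (inv_mem (hN hn))
        obtain ⟨hi1, hi2⟩ := inv_mem hxCk
        refine ⟨fun z hz => ?_, fun v hv => ?_⟩
        · have h2 := hi1 _ (by simpa using (hnZ' z).1 hz : n⁻¹ * z * n ∈ Z)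
          calc n * x⁻¹ * n⁻¹ * z = n * (x⁻¹ * (n⁻¹ * z * n)) * n⁻¹ := by group
            _ = n * (n⁻¹ * z * n * x⁻¹) * n⁻¹ := by rw [h2]
            _ = z * (n * x⁻¹ * n⁻¹) := by group
        · have h2 := hi2 _ (by simpa using hVn.conj_mem v hv n⁻¹ : n⁻¹ * v * n ∈ V)
          have h3 := (hnZ _).1 h2
          convert h3 using 1
          simp only [commutatorElement_def]; group
      have h4 : ⁅x, n⁆ = x * (n * x⁻¹ * n⁻¹) := by rw [commutatorElement_def]; group
      rw [h4]; exact mul_mem hxCk hconj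
    have h2 : ⁅x, n⁆ ∈ N0 := by
      rw [commutatorElement_def]; exact mul_mem (hN0n.conj_mem n hn x) (inv_mem hn)
    obtain ⟨i, hi⟩ := IsPGroup.iff_orderOf.mp hCkp ⟨_, h1⟩
    have h3 := hone _ ⟨i, by rw [← hi, Subgroup.orderOf_mk]⟩ h2
    rw [map_commutatorElement, commutatorElement_eq_one_iff_mul_comm] at h3
    exact h3.symm
  have hX := Cfsg.Lib.GaschutzYen.isPSolvable_quotient V hsol
  exact (QuotientGroup.eq_one_iff x).1 (hone x (hSp x hx)
    (Cfsg.Agent.S4748.centralizer_pPrimeCore_le p hX hVbot hcent))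

/-- With trivial `p'`-core the Sylow subgroup is the `p`-core. -/
theorem le_pCore (hsol : Cfsg.IsPSolvable p G) (hO : Cfsg.pPrimeCore p G = ⊥) (S : Sylow p G)
    (hT : SchmidtType p (S : Subgroup G)) : (S : Subgroup G) ≤ Cfsg.pCore p G := by
  classical
  set V := Cfsg.pCore p G with hVdef
  have hVn : V.Normal := Cfsg.Lib.Components.pCore_normal' p
  have hVS : V ≤ (S : Subgroup G) := Cfsg.Lib.Coprime.pCore_le_sylow p S
  have hVp : IsPGroup p V := Cfsg.Lib.Components.isPGroup_pCore p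
  have hCV : centralizer (V : Set G) ≤ V :=
    Cfsg.Lib.StableClosure.centralizer_pCore_le_of_pSolvable hsol hO
  by_cases hna : IsMulCommutative (S : Subgroup G)
  · exact fun x hx => hCV (mem_centralizer_iff.2 fun v hv =>
      congrArg Subtype.val (hna.is_comm.comm (⟨v, hVS hv⟩ : (S : Subgroup G)) ⟨x, hx⟩))
  set Zc := (center (S : Subgroup G)).map (S : Subgroup G).subtype with hZdef
  have hZS : ∀ x ∈ (S : Subgroup G), ∀ z ∈ Zc, x * z = z * x := fun x hx z hz =>
    ((mem_map_subtype_center.1 hz).2 x hx).symm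
  have hZle : Zc ≤ (S : Subgroup G) := map_subtype_le _
  have hZV : Zc ≤ V := fun z hz => hCV (mem_centralizer_iff.2 fun v hv => hZS v (hVS hv) z hz)
  have hcm : ∀ x ∈ (S : Subgroup G), ∀ y ∈ (S : Subgroup G), ⁅x, y⁆ ∈ Zc := fun x hx y hy =>
    ⟨_, hT.comm_center ⟨x, hx⟩ ⟨y, hy⟩, rfl⟩
  have hpow : ∀ x ∈ (S : Subgroup G), x ^ p ∈ Zc := fun x hx => ⟨_, hT.pow_mem hna ⟨x, hx⟩, rfl⟩
  have hsingle : ∀ (H : Subgroup G) (x : G), x ∈ (S : Subgroup G) → x ∉ Zc →
      (∀ y ∈ (S : Subgroup G), ⁅x, y⁆ ∈ H) → Zc ≤ H := by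
    intro H x hx hxZ hH
    rintro _ ⟨w, hw, rfl⟩
    exact hT.single hna (H.subgroupOf S) ⟨x, hx⟩ (fun h => hxZ ⟨_, h, rfl⟩) (fun y => hH y y.2) hw
  have hlin : ∀ x ∈ (S : Subgroup G), ∀ y ∈ (S : Subgroup G), ∀ z ∈ (S : Subgroup G),
      ⁅x * y, z⁆ = ⁅x, z⁆ * ⁅y, z⁆ ∧ ⁅z, x * y⁆ = ⁅z, x⁆ * ⁅z, y⁆ := by
    intro x hx y hy z hz
    exact ⟨congrArg Subtype.val (Cfsg.Lib.PGroups.commutator_mul_left_of_central (x := (⟨x, hx⟩ : (S : Subgroup G)))
        (hT.comm_center ⟨y, hy⟩ ⟨z, hz⟩)),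
      congrArg Subtype.val (Cfsg.Lib.PGroups.commutator_mul_right_of_central (x := (⟨z, hz⟩ : (S : Subgroup G)))
        (y := ⟨x, hx⟩) (hT.comm_center ⟨z, hz⟩ ⟨y, hy⟩))⟩
  -- `{y ∈ S | ⁅v, y⁆ ∈ H}` is a subgroup
  let kerTo : ∀ (H : Subgroup G) (v : G), v ∈ (S : Subgroup G) → Subgroup G := fun H v hv =>
    { carrier := {y | y ∈ (S : Subgroup G) ∧ ⁅v, y⁆ ∈ H}
      one_mem' := ⟨one_mem _, by rw [commutatorElement_one_right]; exact one_mem _⟩
      mul_mem' := fun {a b} ha hb => ⟨mul_mem ha.1 hb.1, by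
        rw [(hlin a ha.1 b hb.1 v hv).2]; exact mul_mem ha.2 hb.2⟩
      inv_mem' := fun {a} ha => ⟨inv_mem ha.1, by
        have h := (hlin a ha.1 a⁻¹ (inv_mem ha.1) v hv).2
        rw [mul_inv_cancel, commutatorElement_one_right, eq_comm, mul_eq_one_iff_inv_eq] at h
        rw [← h]; exact inv_mem ha.2⟩ }
  set π := QuotientGroup.mk' V
  refine le_pCore_of_le_normalizer hsol hO S Zc hZV hZS hcm ?_
  by_cases hsmall : ∃ u ∈ V, V ≤ zpowers u ⊔ Zc ∧ ∃ y₀ ∈ (S : Subgroup G), (S : Subgroup G) ≤ V ⊔ zpowers y₀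
  · -- the group of order `p³`
    obtain ⟨u, huV, hVu, y, hy, hSy⟩ := hsmall
    by_cases hSV : (S : Subgroup G) ≤ V
    · have hSeq : V = (S : Subgroup G) := le_antisymm hVS hSV
      have hZeq : Zc = (center V).map V.subtype := by
        ext z
        rw [hZdef, mem_map_subtype_center, mem_map_subtype_center, hSeq]
      refine fun n _ => mem_normalizer_fintype fun z hz => ?_
      rw [SetLike.mem_coe] at hz ⊢
      haveI := hVn
      haveI : ((center V).map V.subtype).Normal := inferInstance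
      rw [hZeq] at hz ⊢
      exact Subgroup.Normal.conj_mem ‹_› z hz n
    exfalso
    have huS := hVS huV
    have huZ : u ∉ Zc := fun h => hSV fun x hx => hCV (mem_centralizer_iff.2 fun v hv => by
      have hv' : v ∈ Zc := sup_le (zpowers_le.2 h) le_rfl (hVu hv)
      exact (hZS x hx v hv').symm)
    have hyV : y ∉ V := fun h => hSV (hSy.trans (sup_le le_rfl (zpowers_le.2 h)))
    set c := ⁅u, y⁆
    have hVc : ∀ v ∈ V, ⁅u, v⁆ = 1 := fun v hv => by
      have h1 : zpowers u ⊔ Zc ≤ kerTo ⊥ u huS := sup_le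
        (zpowers_le.2 ⟨huS, by rw [commutatorElement_self]; exact one_mem _⟩)
        (fun z hz => ⟨hZle hz, mem_bot.2 (commutatorElement_eq_one_iff_mul_comm.2 (hZS u huS z hz))⟩)
      exact mem_bot.1 (h1 (hVu hv)).2
    have hZc : Zc ≤ zpowers c := by
      refine hsingle _ u huS huZ fun x hx => ?_
      have h1 : V ⊔ zpowers y ≤ kerTo (zpowers c) u huS := sup_le
        (fun v hv => ⟨hVS hv, by rw [hVc v hv]; exact one_mem _⟩) (zpowers_le.2 ⟨hy, mem_zpowers c⟩)
      exact (h1 (hSy hx)).2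
    have hcp : c ^ p = 1 := by
      have h1 := congrArg Subtype.val (Cfsg.Lib.PGroups.commutator_pow_right_of_commute
        (x := (⟨u, huS⟩ : (S : Subgroup G))) (y := ⟨y, hy⟩)
        (mem_center_iff.1 (hT.comm_center ⟨u, huS⟩ ⟨y, hy⟩) ⟨y, hy⟩).symm p)
      refine Eq.trans h1.symm ?_
      exact commutatorElement_eq_one_iff_mul_comm.2 (hZS u huS _ (hpow y hy))
    have hext : ∀ (H K : Subgroup G) (a : G), IsPGroup p K → H < K → a ∈ normalizer (H : Set G) →
        a ^ p ∈ H → K ≤ H ⊔ zpowers a → Nat.card K = p * Nat.card H := by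
      intro H K a hK hlt han hap hgen
      have hsurj : ∀ x ∈ K, ∃ (i : Fin p) (h : H), (h : G) * a ^ (i : ℕ) = x := by
        intro x hx
        have h1 : x ∈ ((H ⊔ zpowers a : Subgroup G) : Set G) := hgen hx
        rw [coe_mul_of_right_le_normalizer_left _ _ (zpowers_le.2 han)] at h1
        obtain ⟨h, hh, b, hb, rfl⟩ := Set.mem_mul.1 h1
        obtain ⟨i, rfl⟩ := mem_zpowers_iff.1 hb
        refine ⟨⟨(i % (p : ℤ)).toNat, ?_⟩, ⟨h * (a ^ p) ^ (i / (p : ℤ)), mul_mem hh (zpow_mem hap _)⟩, ?_⟩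
        · have h2 := Int.emod_lt_of_pos i (show (0 : ℤ) < p by exact_mod_cast hp.out.pos)
          have h3 := Int.emod_nonneg i (show (p : ℤ) ≠ 0 by exact_mod_cast hp.out.ne_zero)
          omega
        · show h * (a ^ p) ^ (i / (p : ℤ)) * a ^ (i % (p : ℤ)).toNat = h * a ^ i
          rw [mul_assoc, ← zpow_natCast a p, ← zpow_mul, ← zpow_natCast a (Int.toNat _),
            Int.toNat_of_nonneg (Int.emod_nonneg _ (by exact_mod_cast hp.out.ne_zero)), ← zpow_add,
            Int.mul_ediv_add_emod]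
      have hle : Nat.card K ≤ p * Nat.card H := by
        choose f1 f2 hf using hsurj
        have := Nat.card_le_card_of_injective (fun x : K => (f1 x x.2, f2 x x.2)) (fun x x' h => by
          obtain ⟨e1, e2⟩ := Prod.mk.injEq .. ▸ h
          exact Subtype.ext (by rw [← hf x x.2, ← hf x' x'.2, e1, e2]))
        rwa [Nat.card_prod, Nat.card_fin] at this
      obtain ⟨i, hi⟩ := (hK.to_le hlt.le).exists_card_eq
      obtain ⟨j, hj⟩ := hK.exists_card_eq
      have hij : i < j := by
        have h1 : Nat.card H < Nat.card K := by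
          refine lt_of_le_of_ne (card_le_of_le hlt.le) fun e => hlt.ne ?_
          exact eq_of_le_of_card_ge hlt.le e.ge
        rw [hi, hj] at h1
        exact (Nat.pow_lt_pow_iff_right hp.out.one_lt).1 h1
      refine le_antisymm hle ?_
      rw [hi, hj, ← pow_succ']
      exact Nat.pow_le_pow_right hp.out.pos hij
    have hcardZ : Nat.card Zc = p := by
      have h1 : Nat.card Zc ∣ p :=
        (card_dvd_of_le hZc).trans (by rw [Nat.card_zpowers]; exact orderOf_dvd_of_pow_eq_one hcp)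
      refine ((Nat.dvd_prime hp.out).1 h1).resolve_left fun h => ?_
      refine hna ⟨⟨fun a b => ?_⟩⟩
      have h2 : ((⁅a, b⁆ : (S : Subgroup G)) : G) ∈ Zc := ⟨_, hT.comm_center a b, rfl⟩
      rw [card_eq_one.1 h, mem_bot] at h2
      exact commutatorElement_eq_one_iff_mul_comm.1 (Subtype.ext h2)
    have hcardV : Nat.card V = p * p := by
      refine (hext Zc V u hVp (lt_of_le_of_ne hZV fun e => huZ (e ▸ huV)) ?_ (hpow u huS) ?_).trans
        (by rw [hcardZ])
      · refine mem_normalizer_fintype fun z hz => ?_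
        rw [hZS u huS z hz, mul_inv_cancel_right]; exact hz
      · rw [sup_comm]; exact hVu
    have hcardS : Nat.card (S : Subgroup G) = p ^ 3 := by
      rw [hext V S y S.2 (lt_of_le_of_ne hVS fun e => hSV e.ge) (le_normalizer_of_normal (mem_top y))
        (hZV (hpow y hy)) hSy, hcardV]
      ring
    by_cases hp3 : p ≤ 3
    · obtain ⟨h2, hinv⟩ := hT.small hna hcardS hp3
      subst h2
      -- `Zc` is the set of elements of square one in `V`
      refine hSV (le_pCore_of_le_normalizer hsol hO S Zc hZV hZS hcm fun n _ => mem_normalizer_fintype fun z hz => ?_)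
      have hz' : (n * z * n⁻¹) ∈ V := hVn.conj_mem z (hZV hz) n
      have hsq : z ^ 2 = 1 := by
        have h1 := orderOf_dvd_natCard (⟨z, hz⟩ : Zc)
        rw [hcardZ, Subgroup.orderOf_mk] at h1
        exact orderOf_dvd_iff_pow_eq_one.1 h1
      refine ⟨⟨_, hVS hz'⟩, hinv _ (Subtype.ext ?_), rfl⟩
      show (n * z * n⁻¹) ^ 2 = 1
      rw [conj_pow, hsq, mul_one, mul_inv_cancel]
    · have hp5 : 5 ≤ p := by
        rcases Nat.lt_or_ge p 5 with h | h
        · obtain rfl : p = 4 := by omega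
          exact absurd hp.out (by norm_num)
        · exact h
      haveI := hVn
      have hEA : Cfsg.IsElementaryAbelian p V := by
        refine ⟨⟨⟨fun a b => Subtype.ext ?_⟩⟩, fun v hv => ?_⟩
        · show (a : G) * b = b * a
          have hab : zpowers u ⊔ Zc ≤ kerTo ⊥ (a : G) (hVS a.2) := sup_le
            (zpowers_le.2 ⟨huS, by
              rw [← commutatorElement_inv, hVc a a.2, inv_one]; exact one_mem _⟩)
            (fun z hz => ⟨hZle hz, mem_bot.2 (commutatorElement_eq_one_iff_mul_comm.2 (hZS a (hVS a.2) z hz))⟩)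
          exact commutatorElement_eq_one_iff_mul_comm.1 (mem_bot.1 (hab (hVu b.2)).2)
        · exact congrArg Subtype.val (hT.pow_eq_one hna (by omega) ⟨v, hVS hv⟩)
      have hst := Cfsg.Lib.ActionStable.isPStableOn_of_noSection (by omega)
        (Cfsg.Lib.ActionStable.noSection_of_pSolvable hp5 hsol) V hEA y ?_
      · have hCp : IsPGroup p ↥(centralizer (V : Set G)) := hVp.to_le hCV
        set C := centralizer (V : Set G)
        have h1 : IsPGroup p ↥((Cfsg.pCore p (G ⧸ C)).comap (QuotientGroup.mk' C)) :=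
          (Cfsg.Lib.Components.isPGroup_pCore p).comap_of_ker_isPGroup _
            (by rw [QuotientGroup.ker_mk']; exact hCp)
        haveI : ((Cfsg.pCore p (G ⧸ C)).comap (QuotientGroup.mk' C)).Normal :=
          (Cfsg.Lib.Components.pCore_normal' p).comap _
        exact hyV (Cfsg.Lib.Components.le_pCore h1 hst)
      · rw [commutator_eq_bot_iff_le_centralizer]
        have hyZ : zpowers y ≤ (S : Subgroup G) := zpowers_le.2 hy
        refine (commutator_le.2 fun a ha b hb => hcm a (hVS ha) b (hyZ hb)).trans fun z hz =>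
          mem_centralizer_iff.2 fun b hb => hZS b (hyZ hb) z hz
  · -- general case
    set A := (S : Subgroup G).map π
    haveI : IsMulCommutative A := ⟨⟨by
      rintro ⟨_, a, ha, rfl⟩ ⟨_, b, hb, rfl⟩
      refine Subtype.ext ?_
      show π a * π b = π b * π a
      rw [← commutatorElement_eq_one_iff_mul_comm, ← map_commutatorElement]
      exact (QuotientGroup.eq_one_iff _).2 (hZV (hcm a ha b hb))⟩⟩
    set W := Cfsg.pPrimeCore p (G ⧸ V)
    have hcop : (Nat.card A).Coprime (Nat.card W) := by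
      obtain ⟨i, hi⟩ := (S.2.map π).exists_card_eq
      rw [show Nat.card A = p ^ i from hi]
      exact ((Cfsg.Lib.Components.coprime_card_pPrimeCore p).pow_right i).symm
    have hM : W ≤ (normalizer (Zc : Set G)).map π := by
      refine (Cfsg.Lib.Coprime.le_join_cyclicQuot (A := A) (Nat.card A) ⊥ W (Nat.sub_le _ _) bot_le
        (haveI : W.Normal := Cfsg.Lib.Components.pPrimeCore_normal' p; le_normalizer_of_normal) hcop bot_le).trans ?_
      refine iSup₂_le fun C hC w hw => ?_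
      obtain ⟨hwW, hwC⟩ := hw
      obtain ⟨n, rfl⟩ := QuotientGroup.mk'_surjective V w
      refine ⟨n, ?_, rfl⟩
      obtain ⟨hCA, a, ha, hCa⟩ := hC
      obtain ⟨y, hy, rfl⟩ := ha
      set E := (S : Subgroup G) ⊓ C.comap π
      have hVE : V ≤ E := fun v hv =>
        ⟨hVS hv, by show π v ∈ C; rw [show π v = 1 from (QuotientGroup.eq_one_iff v).2 hv]; exact one_mem C⟩
      have hES : E ≤ (S : Subgroup G) := inf_le_left
      have hgen : (S : Subgroup G) ≤ E ⊔ zpowers y := by
        have h1 : (S : Subgroup G).map π ≤ (E ⊔ zpowers y).map π := by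
          rw [Subgroup.map_sup, MonoidHom.map_zpowers]
          refine hCa.ge.trans (sup_le_sup_right ?_ _)
          intro c hc
          obtain ⟨x, hx, rfl⟩ := hCA hc
          exact ⟨x, ⟨hx, hc⟩, rfl⟩
        rw [Subgroup.map_le_map_iff, QuotientGroup.ker_mk'] at h1
        exact h1.trans (sup_le le_rfl (hVE.trans le_sup_left))
      have hnE : ∀ e ∈ E, n * e * n⁻¹ ∈ E := by
        intro e he
        have h1 : ⁅n, e⁆ ∈ V := by
          rw [← QuotientGroup.eq_one_iff]
          show π ⁅n, e⁆ = 1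
          rw [map_commutatorElement, commutatorElement_eq_one_iff_mul_comm]
          exact (mem_centralizer_iff.1 hwC (π e) he.2).symm
        have h2 : n * e * n⁻¹ = ⁅n, e⁆ * e := by rw [commutatorElement_def]; group
        rw [h2]
        exact mul_mem (hVE h1) he
      set L := closure {g | ∃ v ∈ V, ∃ e ∈ E, ⁅v, e⁆ = g}
      have hnL : ∀ g ∈ L, n * g * n⁻¹ ∈ L := by
        intro g hg
        have h1 : L ≤ L.comap (MulAut.conj n).toMonoidHom := (closure_le _).2 <| by
          rintro _ ⟨v, hv, e, he, rfl⟩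
          refine subset_closure ⟨n * v * n⁻¹, hVn.conj_mem v hv n, n * e * n⁻¹, hnE e he, ?_⟩
          show _ = n * ⁅v, e⁆ * n⁻¹
          simp only [commutatorElement_def]; group
        exact h1 hg
      by_cases hL : Zc ≤ L
      · have hLe : L = Zc := le_antisymm ((closure_le _).2 (by
          rintro _ ⟨v, hv, e, he, rfl⟩; exact hcm v (hVS hv) e (hES he))) hL
        exact mem_normalizer_fintype fun z hz => by
          rw [SetLike.mem_coe, ← hLe] at hz ⊢; exact hnL z hz
      -- otherwise `V` is `Zc` extended by one element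
      obtain ⟨u, huV, hu⟩ : ∃ u ∈ V, V ≤ zpowers u ⊔ Zc := by
        by_cases hVZ : V ≤ Zc
        · exact ⟨1, one_mem V, hVZ.trans le_sup_right⟩
        obtain ⟨u, huV, huZ⟩ := Set.not_subset.1 hVZ
        refine ⟨u, huV, fun v hv => ?_⟩
        have hbig : ∀ x ∈ V, x ∉ Zc → Zc ≤ L ⊔ zpowers ⁅x, y⁆ := by
          intro x hx hxZ
          refine hsingle _ x (hVS hx) hxZ fun s hs => ?_
          have h1 : E ⊔ zpowers y ≤ kerTo (L ⊔ zpowers ⁅x, y⁆) x (hVS hx) := sup_le
            (fun e he => ⟨hES he, mem_sup_left (subset_closure ⟨x, hx, e, he, rfl⟩)⟩)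
            (zpowers_le.2 ⟨hy, mem_sup_right (mem_zpowers _)⟩)
          exact (h1 (hgen hs)).2
        have hLZ : L ≤ Zc := (closure_le _).2 (by
          rintro _ ⟨a, ha, e, he, rfl⟩; exact hcm a (hVS ha) e (hES he))
        have hmem := hbig u huV huZ (hcm v (hVS hv) y hy)
        rw [← SetLike.mem_coe, coe_mul_of_right_le_normalizer_left] at hmem
        · obtain ⟨l, hl, b, hb, hlb⟩ := Set.mem_mul.1 hmem
          obtain ⟨i, rfl⟩ := mem_zpowers_iff.1 hb
          have hpowu : ⁅u ^ (-i), y⁆ = (⁅u, y⁆ ^ i)⁻¹ := by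
            let φ : ↥(S : Subgroup G) →* ↥(S : Subgroup G) :=
              MonoidHom.mk' (fun a => ⁅a, ⟨y, hy⟩⁆) fun a b =>
                Cfsg.Lib.PGroups.commutator_mul_left_of_central (hT.comm_center _ _)
            rw [← zpow_neg]
            exact congrArg Subtype.val (map_zpow φ ⟨u, hVS huV⟩ (-i))
          have hw : v * u ^ (-i) ∈ Zc := by
            by_contra hwZ
            refine hL ((hbig _ (mul_mem hv (zpow_mem huV _)) hwZ).trans (sup_le le_rfl (zpowers_le.2 ?_)))
            rw [(hlin v (hVS hv) _ (zpow_mem (hVS huV) _) y hy).1, hpowu, ← hlb, mul_inv_cancel_right]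
            exact hl
          have : v = v * u ^ (-i) * u ^ i := by rw [zpow_neg, inv_mul_cancel_right]
          rw [this]
          exact mul_mem (mem_sup_right hw) (mem_sup_left (zpow_mem (mem_zpowers u) i))
        · refine zpowers_le.2 (mem_normalizer_fintype fun l hl => ?_)
          rw [hZS _ (hZle (hcm u (hVS huV) y hy)) l (hLZ hl), mul_inv_cancel_right]; exact hl
      have hEV : ¬ E ≤ V := fun hle => hsmall ⟨u, huV, hu, y, hy, hgen.trans (sup_le_sup_right hle _)⟩
      have hZE : Zc = V ⊓ centralizer (E : Set G) := by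
        refine le_antisymm (fun z hz => ⟨hZV hz, mem_centralizer_iff.2 fun e he => hZS e (hES he) z hz⟩)
          fun w hw => ?_
        obtain ⟨hwV, hwE⟩ := hw
        by_contra hwZ
        refine hEV fun e he => hCV (mem_centralizer_iff.2 fun v hv => ?_)
        have huS := hVS huV
        have hu' : u ∈ zpowers w ⊔ Zc := by
          have h1 : w ∈ ((zpowers u ⊔ Zc : Subgroup G) : Set G) := hu hwV
          rw [coe_mul_of_left_le_normalizer_right _ _ (zpowers_le.2 (mem_normalizer_fintype fun z hz => by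
            rw [hZS u huS z hz, mul_inv_cancel_right]; exact hz))] at h1
          obtain ⟨b, hb, z, hz, rfl⟩ := Set.mem_mul.1 h1
          obtain ⟨i, rfl⟩ := mem_zpowers_iff.1 hb
          have hip : ¬ (p : ℤ) ∣ i := by
            rintro ⟨j, rfl⟩
            refine hwZ (mul_mem ?_ hz)
            rw [zpow_mul, zpow_natCast]
            exact zpow_mem (hpow u huS) j
          have hbez : (p : ℤ) * Int.gcdA p i + i * Int.gcdB p i = 1 := by
            rw [← Int.gcd_eq_gcd_ab]
            have : Int.gcd (p : ℤ) i = 1 := by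
              rw [Int.gcd_eq_natAbs, Int.natAbs_natCast]
              exact (Nat.Prime.coprime_iff_not_dvd hp.out).2 fun hd => hip (Int.natCast_dvd.2 hd)
            rw [this]; norm_num
          have hui : u ^ i ∈ zpowers (u ^ i * z) ⊔ Zc := by
            have := mul_mem (mem_sup_left (mem_zpowers (u ^ i * z)) : _ ∈ zpowers (u ^ i * z) ⊔ Zc)
              (mem_sup_right (inv_mem hz))
            rwa [mul_inv_cancel_right] at this
          have h2 : u = (u ^ p) ^ Int.gcdA p i * (u ^ i) ^ Int.gcdB p i := by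
            rw [← zpow_natCast, ← zpow_mul, ← zpow_mul, ← zpow_add, hbez, zpow_one]
          have h3 := mul_mem
            (mem_sup_right (zpow_mem (hpow u huS) (Int.gcdA p i)) :
              (u ^ p) ^ Int.gcdA p i ∈ zpowers (u ^ i * z) ⊔ Zc) (zpow_mem hui (Int.gcdB p i))
          rwa [← h2] at h3
        have hle : zpowers w ⊔ Zc ≤ centralizer ({e} : Set G) := sup_le
          (zpowers_le.2 (mem_centralizer_singleton_iff.2 (mem_centralizer_iff.1 hwE e he).symm))
          (fun z hz => mem_centralizer_singleton_iff.2 (hZS e (hES he) z hz).symm)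
        have hle' : zpowers u ⊔ Zc ≤ centralizer ({e} : Set G) := sup_le
          (zpowers_le.2 (hle hu')) (le_sup_right.trans hle)
        exact mem_centralizer_singleton_iff.1 (hle' (hu hv))
      refine mem_normalizer_fintype fun z hz => ?_
      rw [SetLike.mem_coe, hZE] at hz ⊢
      refine ⟨hVn.conj_mem z hz.1 n, mem_centralizer_iff.2 fun e he => ?_⟩
      obtain ⟨e', he', rfl⟩ : ∃ e' ∈ E, n * e' * n⁻¹ = e := by
        have hfin : ((E : Set G)).Finite := Set.toFinite _
        have := hfin.injOn_iff_bijOn_of_mapsTo (f := fun x => n * x * n⁻¹) (fun x hx => hnE x hx) |>.1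
          (fun a _ b _ h => mul_left_cancel (mul_right_cancel h))
        exact this.surjOn he
      have h1 := mem_centralizer_iff.1 hz.2 e' he'
      calc n * e' * n⁻¹ * (n * z * n⁻¹) = n * (e' * z) * n⁻¹ := by group
        _ = n * (z * e') * n⁻¹ := by rw [h1]
        _ = n * z * n⁻¹ * (n * e' * n⁻¹) := by group
    intro n hn
    obtain ⟨m, hm, hmn⟩ := hM hn
    have hVN : V ≤ normalizer (Zc : Set G) := fun v hv => mem_normalizer_fintype fun z hz => by
      rw [hZS v (hVS hv) z hz, mul_inv_cancel_right]; exact hz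
    have h1 : m⁻¹ * n ∈ V := QuotientGroup.eq.1 hmn
    have := mul_mem hm (hVN h1)
    rwa [mul_inv_cancel_left] at this

/-- The theorem: `p`-length at most one. -/
theorem pLengthLE_one (hsol : Cfsg.IsPSolvable p G) (S : Sylow p G)
    (hT : SchmidtType p (S : Subgroup G)) : Cfsg.PLengthLE p 1 G := by
  rw [Cfsg.Lib.OddP.pLengthLE_one_iff]
  haveI : (Cfsg.pPrimeCore p G).Normal := Cfsg.Lib.Components.pPrimeCore_normal' p
  set f := QuotientGroup.mk' (Cfsg.pPrimeCore p G)
  have hsurj : Function.Surjective f := QuotientGroup.mk'_surjective _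
  set S' := S.mapSurjective hsurj
  have hinj : Function.Injective (f.subgroupMap (S : Subgroup G)) := by
    rw [injective_iff_map_eq_one]
    intro x hx
    have h1 : (x : G) ∈ Cfsg.pPrimeCore p G := (QuotientGroup.eq_one_iff (x : G)).1 (congrArg Subtype.val hx)
    obtain ⟨i, hi⟩ := IsPGroup.iff_orderOf.mp S.2 x
    have h2 := orderOf_dvd_natCard (⟨(x : G), h1⟩ : ↥(Cfsg.pPrimeCore p G))
    rw [Subgroup.orderOf_mk, Subgroup.orderOf_coe] at h2
    rw [← orderOf_eq_one_iff]
    exact Nat.eq_one_of_dvd_coprimes ((Cfsg.Lib.Components.coprime_card_pPrimeCore p).pow_right i) h2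
      (hi ▸ dvd_rfl)
  have hT' : SchmidtType p (S' : Subgroup (G ⧸ Cfsg.pPrimeCore p G)) :=
    SchmidtType.of_equiv (MulEquiv.ofBijective (f.subgroupMap (S : Subgroup G))
      ⟨hinj, f.subgroupMap_surjective _⟩).symm hT
  have hle := le_pCore (Cfsg.Lib.GaschutzYen.isPSolvable_quotient _ hsol)
    Cfsg.Lib.Coprime.pPrimeCore_quotient_eq_bot S' hT'
  show ((Cfsg.pCore p (G ⧸ Cfsg.pPrimeCore p G)).comap f).index.Coprime p
  rw [index_comap_of_surjective _ hsurj]
  exact ((hp.out.coprime_iff_not_dvd.2 S'.not_dvd_index).symm).coprime_dvd_left (index_dvd_of_le hle)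

end Cfsg.Lib.SchmidtPLength
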